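import Cfsg.Agent.ClassicalGeometry.SympAutExists
import Cfsg.Agent.ClassicalGeometry.SympAutOddA
import Cfsg.Agent.ClassicalGeometry.SympGamma
import Cfsg.Agent.ClassicalGeometry.SympInvolutions

/-!
# A class of elements of order `r` of `PSp_2m(q)`, `r ∣ q ^ m - 1`, fixed by all automorphisms, `q` an odd prime
-/

set_option autoImplicit false

namespace Cfsg.Agent.H418.Rec

open Cfsg Matrix
open Cfsg.Agent.ClassicalGeometry.SympBasic Cfsg.Agent.ClassicalGeometry.SympAutSemi
open Cfsg.Agent.ClassicalGeometry.SympGamma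

variable {F : Type*} [Field F] {m : ℕ}

/-- the Levi subgroup of the Siegel parabolic subgroup -/
noncomputable def levi (m : ℕ) (F : Type*) [Field F] : GL (Fin m) F →* Matrix.symplecticGroup (Fin m) F where
  toFun g := ⟨fromBlocks g.1 0 0 (g⁻¹).1ᵀ, by
    rw [SymplecticGroup.fromBlocks_mem_iff]
    refine ⟨by simp, by simp, ?_⟩
    rw [← Matrix.transpose_mul, ← Units.val_mul, inv_mul_cancel]
    simp⟩
  map_one' := by
    apply Subtype.ext
    change fromBlocks _ _ _ _ = (1 : Matrix _ _ F)
    rw [inv_one, Units.val_one, Matrix.transpose_one, fromBlocks_one]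
  map_mul' g h := by
    apply Subtype.ext
    change fromBlocks _ _ _ _ = fromBlocks _ _ _ _ * fromBlocks _ _ _ _
    rw [Matrix.fromBlocks_multiply]
    simp [Matrix.transpose_mul]

theorem levi_injective : Function.Injective (levi m F) := by
  intro g h hgh
  exact Units.ext (Matrix.fromBlocks_inj.1 (congrArg Subtype.val hgh)).1

/-- the Levi subgroup commutes with the similitudes -/
theorem dil_levi (l : Fˣ) (g : GL (Fin m) F) :
    dilPerm m l * rho m F (levi m F g) = rho m F (levi m F g) * dilPerm m l := by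
  ext1 v
  funext i
  rw [Equiv.Perm.mul_apply, Equiv.Perm.mul_apply, rho_apply, rho_apply]
  change dilPerm m l (fromBlocks _ _ _ _ *ᵥ v) i = (fromBlocks _ _ _ _ *ᵥ dilPerm m l v) i
  rw [fromBlocks_mulVec, fromBlocks_mulVec]
  have h1 : (dilPerm m l v) ∘ Sum.inl = (l : F) • (v ∘ Sum.inl) := by
    funext i
    rfl
  have h2 : (dilPerm m l v) ∘ Sum.inr = v ∘ Sum.inr := by
    funext i
    rfl
  rw [h1, h2]
  rcases i with i | i
  · rw [dilPerm_inl]
    simp [mulVec_smul]
  · rw [dilPerm_inr]
    simp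

/-- elements of prime order of `GL` -/
theorem exists_gl [Finite F] {k r : ℕ} (hk : 0 < k) (hr : r.Prime) (hd : r ∣ Nat.card F ^ k - 1) :
    ∃ A : GL (Fin k) F, orderOf A = r := by
  have := Fact.mk hr
  have := Fintype.ofFinite F
  have h1 : r ∣ Nat.card (GL (Fin k) F) := by
    rw [Matrix.card_GL_field]
    refine dvd_trans ?_ (Finset.dvd_prod_of_mem _ (Finset.mem_univ (⟨0, hk⟩ : Fin k)))
    rw [pow_zero, ← Nat.card_eq_fintype_card]
    exact hd
  exact exists_prime_orderOf_dvd_card' r h1

/-- **A class of elements of order `r` fixed by all automorphisms of `PSp_2m(q)`.** -/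
theorem exists_class_psp [Finite F] (h2 : (2 : F) ≠ 0) (hσ : ∀ (σ : F ≃+* F) (c : F), σ c = c) {r : ℕ} (hm : 2 ≤ m)
    (hr : r.Prime) (hr2 : r ≠ 2) (hd : r ∣ Nat.card F ^ m - 1) :
    ∃ x : PSp m F, orderOf x = r ∧ ∀ α : MulAut (PSp m F), ∃ w, α x = w * x * w⁻¹ := by
  obtain ⟨A, hA⟩ := exists_gl (F := F) (k := m) (by omega) hr hd
  refine ⟨QuotientGroup.mk (levi m F A), ?_, fun α => ?_⟩
  · have hX : (levi m F A) ^ r = 1 := by rw [← map_pow, ← hA, pow_orderOf_eq_one, map_one]
    have hX1 : levi m F A ≠ 1 := by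
      intro h
      have h3 : A = 1 := levi_injective (h.trans (map_one _).symm)
      rw [h3, orderOf_one] at hA
      exact hr.one_lt.ne hA
    refine orderOf_eq_prime ?_ ?_ (hp := ⟨hr⟩)
    · rw [← QuotientGroup.mk_pow, hX]
      rfl
    · intro h
      have h4 := (QuotientGroup.eq_one_iff _).1 h
      rcases Cfsg.Agent.ClassicalGeometry.SympInvolutions.center_eq h4 with h5 | h5
      · exact hX1 (Subtype.ext h5)
      · have h6 : (levi m F A) ^ 2 = 1 := by
          apply Subtype.ext
          rw [pow_two]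
          change (levi m F A).1 * (levi m F A).1 = 1
          rw [h5, neg_mul_neg, mul_one]
        have h7 : orderOf (levi m F A) ∣ 2 := orderOf_dvd_of_pow_eq_one h6
        have h8 : orderOf (levi m F A) = r := orderOf_eq_prime hX hX1 (hp := ⟨hr⟩)
        rw [h8] at h7
        exact hr2 ((Nat.prime_dvd_prime_iff_eq hr Nat.prime_two).1 h7)
  · obtain ⟨g, rfl⟩ := Cfsg.Agent.ClassicalGeometry.SympAutExists.exists_semi hm α
      (Cfsg.Agent.ClassicalGeometry.SympAutOddA.recog hm (Or.inr h2) α)
    obtain ⟨⟨σ, l, B⟩, rfl⟩ := (par_bijective (F := F) (m := m) (by omega)).2 g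
    refine ⟨QuotientGroup.mk B, ?_⟩
    rw [Psi_mk, ← QuotientGroup.mk_inv, ← QuotientGroup.mk_mul, ← QuotientGroup.mk_mul]
    congr 1
    apply rho_injective
    rw [rho_conjHom, par_coe, map_mul, map_mul, map_inv]
    have hfr : frobPerm m σ = 1 := by
      ext1 v
      funext i
      rw [frobPerm_apply, hσ]
      rfl
    simp only
    rw [hfr, mul_one, _root_.mul_inv_rev, mul_assoc (rho m F B), dil_levi]
    group

end Cfsg.Agent.H418.Rec
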