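import Cfsg.Agent.H418.Rec.OutOdd
import Cfsg.Agent.H418.Rec.OutSp
import Cfsg.Agent.H425.OutPlus
import Cfsg.Agent.H183.OrthSum

/-!
# A class of elements of order `r` of `Ω_{2n+1}(3)`, `r ∣ 3 ^ n - 1`, `n` odd, fixed by all automorphisms, II
-/

set_option autoImplicit false

namespace Cfsg.Agent.H418.Rec

open Cfsg Matrix QuadraticMap
open Cfsg.Agent.ClassicalGeometry.Reflection Cfsg.Agent.ClassicalGeometry.SpinorSign
  Cfsg.Agent.ClassicalGeometry.OmegaIndex Cfsg.Agent.H175.OmegaAdjust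
open Cfsg.Agent.H425.OutC Cfsg.Agent.LieClassical.OrthForms Cfsg.Agent.H425.Torus

universe u

variable {F : Type u} [Field F] {m : ℕ}

theorem ext_act {ι : Type} [Fintype ι] [DecidableEq ι] {Q : (ι → F) → F} {g h : isometryGroup F Q}
    (H : ∀ v, act g v = act h v) : g = h := by
  apply Subtype.ext
  apply Units.ext
  apply Matrix.toLin'.injective
  apply LinearMap.ext
  intro v
  rw [Matrix.toLin'_apply, Matrix.toLin'_apply]
  exact H v

/-- `diag(1, A, A⁻ᵀ)` -/
noncomputable def xo (m : ℕ) (F : Type u) [Field F] : GL (Fin m) F →* isometryGroup F (quadFormOdd m F) :=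
  (H183.blk (fun v : Unit → F => v () ^ 2) (quadFormPlus m F)).comp
    ((1 : GL (Fin m) F →* isometryGroup F (fun v : Unit → F => v () ^ 2)).prod (dg m F))

theorem act_xo (A : GL (Fin m) F) (v : Unit ⊕ (Fin m ⊕ Fin m) → F) :
    act (xo m F A) v = Sum.elim (v ∘ Sum.inl) (act (dg m F A) (v ∘ Sum.inr)) := by
  change fromBlocks (1 : Matrix Unit Unit F) 0 0 ((dg m F A).1.1) *ᵥ v = _
  rw [fromBlocks_mulVec]
  simp only [Matrix.zero_mulVec, add_zero, zero_add, one_mulVec]
  rfl

theorem xo_injective : Function.Injective (xo m F) := by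
  intro A B h
  apply dg_injective
  apply ext_act
  intro v
  have h1 := act_xo A (Sum.elim 0 v)
  rw [h, act_xo] at h1
  have h2 := congrArg (fun w : Unit ⊕ (Fin m ⊕ Fin m) → F => w ∘ Sum.inr) h1
  simp only [Sum.elim_comp_inr] at h2
  exact h2.symm

theorem act_neg' {ι : Type} [Fintype ι] [DecidableEq ι] {Q : (ι → F) → F} (g : isometryGroup F Q) (v : ι → F) :
    act g (-v) = - act g v := Matrix.mulVec_neg _ _

/-- minus one on all hyperbolic planes commutes with `xo` -/
theorem act_xo_ss (A : GL (Fin m) F) (P : Fin m → Prop) [DecidablePred P] (hP : ∀ i, P i)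
    (v : Unit ⊕ (Fin m ⊕ Fin m) → F) : act (xo m F A) (ss P v) = ss P (act (xo m F A) v) := by
  have h1 : ∀ w : Unit ⊕ (Fin m ⊕ Fin m) → F, ss P w = Sum.elim (w ∘ Sum.inl) (-(w ∘ Sum.inr)) := by
    intro w
    funext s
    rcases s with s | (s | s) <;> simp [ss, hP]
  rw [h1, h1, act_xo, act_xo]
  simp only [Sum.elim_comp_inl, Sum.elim_comp_inr, act_neg']

/-- `-1` -/
noncomputable def ngI {ι : Type} [Fintype ι] [DecidableEq ι] (Q : QuadraticForm F (ι → F)) : isometryGroup F ⇑Q :=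
  toIso Q (LinearEquiv.neg F) (fun v => by
    change Q (-v) = Q v
    rw [QuadraticMap.map_neg])

theorem act_ngI {ι : Type} [Fintype ι] [DecidableEq ι] (Q : QuadraticForm F (ι → F)) (v : ι → F) :
    act (ngI Q) v = - v := by
  change _ *ᵥ v = _
  rw [ngI, toIso_mulVec]
  rfl

theorem det_ngI {ι : Type} [Fintype ι] [DecidableEq ι] (Q : QuadraticForm F (ι → F)) (hι : Odd (Fintype.card ι)) :
    ((ngI Q : Matrix.GeneralLinearGroup ι F) : Matrix ι ι F).det = -1 := by
  have h1 : ((ngI Q : Matrix.GeneralLinearGroup ι F) : Matrix ι ι F) = -1 := by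
    apply Matrix.toLin'.injective
    apply LinearMap.ext
    intro v
    rw [Matrix.toLin'_apply, Matrix.toLin'_apply, neg_mulVec, one_mulVec]
    exact act_ngI Q v
  rw [h1, Matrix.det_neg, Matrix.det_one, hι.neg_one_pow, mul_one]

theorem oddForm_nondegenerate (h2 : (2 : F) ≠ 0) : (polarBilin (oddForm m F)).Nondegenerate := by
  have hQ := nondeg_oddForm m F h2
  constructor
  · exact hQ
  · intro y hy
    exact hQ y fun x => by rw [polar_comm]; exact hy x

theorem isSquare_of_sim (h2 : (2 : F) ≠ 0) (μ : F) (hμ : μ ≠ 0)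
    (h : ∃ T : (Unit ⊕ (Fin m ⊕ Fin m) → F) ≃ₗ[F] (Unit ⊕ (Fin m ⊕ Fin m) → F), ∀ v,
      oddForm m F (T v) = μ * oddForm m F v) : IsSquare μ := by
  obtain ⟨T, hT⟩ := h
  refine Cfsg.Agent.ClassicalGeometry.OrthSemiCount.isSquare_of_odd (Q := oddForm m F) h2 (nondeg_oddForm m F h2) ?_
    (M := T.toEquiv) ⟨hμ, fun u v => T.map_add u v, fun a v => T.map_smul a v, fun v => hT v⟩
  rw [Module.finrank_fintype_fun_eq_card]
  simp only [Fintype.card_sum, Fintype.card_unit, Fintype.card_fin]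
  exact ⟨m, by ring⟩

/-- the fixed vector -/
def e0 (m : ℕ) (F : Type u) [Field F] : Unit ⊕ (Fin m ⊕ Fin m) → F := Sum.elim (fun _ => 1) (fun _ => 0)

/-- **A class of elements of order `r` fixed by all automorphisms of `Ω_{2m+1}(q)`.** -/
theorem exists_class_odd [Finite F] (h2 : (2 : F) ≠ 0) (hσ : ∀ (σ : F ≃+* F) (c : F), σ c = c)
    (h1 : ¬ IsSquare (-1 : F)) {r : ℕ} (hm : 3 ≤ m) (hodd : m % 2 = 1)
    (hr : r.Prime) (hr2 : r ≠ 2) (hd : r ∣ Nat.card F ^ m - 1) :
    ∃ x : POmega F (quadFormOdd m F), orderOf x = r ∧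
      ∀ α : MulAut (POmega F (quadFormOdd m F)), ∃ w, α x = w * x * w⁻¹ := by
  obtain ⟨A, hA⟩ := exists_gl (F := F) (k := m) (by omega) hr hd
  have hr3 : Odd r := hr.odd_of_ne_two hr2
  have hind := fun α => Cfsg.Agent.AutOrth.Main.all_odd (F := F) (m := m) hm h2 α
  have hXr : orderOf (xo m F A) = r := by rw [orderOf_injective _ xo_injective, hA]
  have hQ : (polarBilin (oddForm m F)).Nondegenerate := oddForm_nondegenerate h2
  have hcard : 3 ≤ Fintype.card (Unit ⊕ (Fin m ⊕ Fin m)) := by simp; omega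
  have hs : ∃ u : Unit ⊕ (Fin m ⊕ Fin m) → F, u ≠ 0 ∧ oddForm m F u = 0 := by
    have i0 : Fin m := ⟨0, by omega⟩
    refine ⟨uv i0 0, ?_, oddForm_uv i0 0⟩
    intro h
    have h3 := congrFun h (.inr (.inl i0))
    simp [uv] at h3
  have hact : act (xo m F A) (e0 m F) = e0 m F := by
    rw [act_xo]
    funext s
    rcases s with s | s
    · rfl
    · rw [Sum.elim_inr]
      have h4 : e0 m F ∘ Sum.inr = 0 := rfl
      have : act (dg m F A) 0 = 0 := Matrix.mulVec_zero _
      rw [h4, this]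
      rfl
  have hcb : ∀ v, act (xo m F A) (ss (fun j => j ∈ List.finRange m) v) =
      ss (fun j => j ∈ List.finRange m) (act (xo m F A) v) :=
    fun v => act_xo_ss A _ (fun i => List.mem_finRange i) v
  generalize xo m F A = X at hXr hact hcb
  revert hact hXr hcb X hind
  rw [← coe_oddForm]
  intro hind X hXr hact hcb
  have hXΩ : X ∈ Omega F ⇑(oddForm m F) :=
    mem_omega_of_odd h2 _ hQ hr3 (by rw [← hXr, pow_orderOf_eq_one])
  refine ⟨QuotientGroup.mk ⟨X, hXΩ⟩, ?_, fun α => ?_⟩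
  · have h3 : (⟨X, hXΩ⟩ : Omega F ⇑(oddForm m F)) ^ r = 1 := by
      apply Subtype.ext
      change X ^ r = 1
      rw [← hXr, pow_orderOf_eq_one]
    refine orderOf_eq_prime ?_ ?_ (hp := ⟨hr⟩)
    · rw [← QuotientGroup.mk_pow, h3]
      rfl
    · intro h
      have h4 := (QuotientGroup.eq_one_iff _).1 h
      rw [LieClassical.OmegaCenter.mem_center_omega_iff _ hQ hcard hs] at h4
      have h6 : ((X : GL (Unit ⊕ (Fin m ⊕ Fin m)) F) :
          Matrix (Unit ⊕ (Fin m ⊕ Fin m)) (Unit ⊕ (Fin m ⊕ Fin m)) F) = 1 ∨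
        ((X : GL (Unit ⊕ (Fin m ⊕ Fin m)) F) :
          Matrix (Unit ⊕ (Fin m ⊕ Fin m)) (Unit ⊕ (Fin m ⊕ Fin m)) F) = -1 := h4
      rcases h6 with h6 | h6
      · have h7 : X = 1 := by
          apply Subtype.ext
          apply Units.ext
          exact h6
        rw [h7, orderOf_one] at hXr
        exact hr.one_lt.ne hXr
      · have h7 : act X (e0 m F) = -(e0 m F) := by
          change _ *ᵥ _ = _
          rw [h6, neg_mulVec, one_mulVec]
        rw [hact] at h7
        have h8 := congrFun h7 (Sum.inl ())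
        have h9 : e0 m F (Sum.inl ()) = 1 := rfl
        rw [Pi.neg_apply, h9] at h8
        apply h2
        linear_combination h8
  · have hl := List.nodup_finRange m
    refine aut_class' h2 hσ (oddForm m F) hQ (by omega) hXΩ (a := ngI (oddForm m F)) (b := bl (List.finRange m))
      ?_ ?_ (det_ngI _ ?_) (det_bl _) ?_ (fun μ hμ hT => isSquare_of_sim h2 μ hμ hT) α (hind α)
    · apply ext_act
      intro v
      rw [act_mul, act_mul, act_ngI, act_ngI, act_neg']
    · apply ext_act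
      intro v
      rw [act_mul, act_mul, act_bl _ hl, act_bl _ hl, hcb]
    · simp only [Fintype.card_sum, Fintype.card_unit, Fintype.card_fin]
      exact ⟨m, by ring⟩
    · rw [spinorSign_bl h2 h1, List.length_finRange]
      exact (Nat.odd_iff.2 hodd).neg_one_pow

end Cfsg.Agent.H418.Rec
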