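import Cfsg.Agent.H425.OddFive
import Cfsg.Agent.H425.PrimeRank
import Cfsg.Agent.H45.Uni.U
import Cfsg.Agent.H418.Rec.OutOdd2
import Cfsg.Agent.H418.SpK.Tr2

/-!
# `B_n(3)` and `C_n(3)`, `n` an odd prime: the radical and the outer part (helper418)
-/

set_option autoImplicit false

namespace Cfsg.Agent.H418.Rec

open Cfsg Subgroup
open Cfsg.Agent.OrdDiv Cfsg.Agent.H436 Cfsg.Agent.H420.QR Cfsg.Agent.H425.KStep Cfsg.Agent.H425.Chr Cfsg.Agent.H425.Siegel
  Cfsg.Agent.H425.KFix Cfsg.Agent.H425.Fin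

universe u v

section L

variable {F : Type v} [Field F] [Fintype F]

theorem two_ne (hF : Fintype.card F = 3) : (2 : F) ≠ 0 := H420.QR.two_ne_zero_of_odd (by rw [hF]; decide)

/-- `Ω_{2n+1}(q) ≤ PΩ⁺_{2n+2}(q)` -/
theorem exists_plus_of_odd (h2 : (2 : F) ≠ 0) {n : ℕ} (hn : 1 ≤ n) {N : ℕ}
    (h : ∃ x : POmega F (quadFormOdd n F), orderOf x = N) :
    ∃ y : POmega F (quadFormPlus (n + 1) F), orderOf y = N := by
  obtain ⟨φ, hφ⟩ := Cfsg.Agent.H425.Emb.exists_emb_plus (F := F) (m := n) h2 hn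
  obtain ⟨y, hy⟩ := exists_of_quot h
  exact ⟨φ y, by rw [orderOf_injective φ hφ, hy]⟩

theorem two_nadj (hF : Fintype.card F = 3) {n : ℕ} (hn : 5 ≤ n) (hodd : n % 2 = 1) {r : ℕ} (hr : Prim 3 n r) :
    ¬ ∃ x : POmega F (quadFormOdd n F), orderOf x = 2 * r := fun h =>
  two_nonadj_three hF (n := n + 1) (by omega) (Or.inr ⟨by omega, rfl⟩) hr (exists_plus_of_odd (two_ne hF) (by omega) h)

theorem three_nadj (hF : Fintype.card F = 3) {n : ℕ} (hn : 5 ≤ n) {r : ℕ} (hr : Prim 3 (2 * n) r) :
    ¬ ∃ x : POmega F (quadFormOdd n F), orderOf x = 3 * r := fun h => by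
  have hch := H425.PPart.charP_of' Nat.prime_three hF
  have h1 := exists_plus_of_odd (two_ne hF) (by omega) h
  have hcard : Fintype.card (Fin (n + 1) ⊕ Fin (n + 1)) = 2 * (n + 1) := by simp; ring
  have hD : Cfsg.Agent.H390.Lift.Data (LieClassical.OmegaReindex.quadPlus (n + 1) F) :=
    Cfsg.Agent.H390.data_of _ LieClassical.OmegaReindex.quadPlus_nondegenerate (by rw [hcard]; omega)
    (LieClassical.OmegaReindex.quadPlus_isotropic (by omega)) (Or.inr (by rw [hcard]; omega))
  rw [← LieClassical.OmegaReindex.coe_quadPlus] at h1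
  exact H425.PPart.nadj_p Nat.prime_three (by norm_num) hD (n := n + 1) (by omega) hcard (by
    rw [Nat.card_eq_fintype_card, hF, Nat.add_sub_cancel]
    exact hr) h1

end L

variable {G : Type u} [Group G] [Finite G] {K : Subgroup G} [K.Normal] {S : Subgroup (G ⧸ K)} [S.Normal]
variable {F : Type v} [Field F] [Fintype F]

/-- **the primes of `|K|`** -/
theorem isPGroup_K (hF : Fintype.card F = 3) {n : ℕ} (hn : 5 ≤ n) (hp : n.Prime) (R : Red G K S)
    (hL : Same (POmega F (quadFormOdd n F)) G) (hM : ∀ k, 3 ≤ k → k ≤ n → ∀ r, Prim 3 k r → Mov S 3 r) :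
    IsPGroup 3 K := by
  have hodd : n % 2 = 1 := by
    rcases hp.eq_two_or_odd with h | h
    · omega
    · exact h
  refine isPGroup_of_dvd Nat.prime_three fun t ht htK => ?_
  by_contra ht3
  have hpt : ¬ t ∣ 3 := fun h => ht3 ((Nat.prime_dvd_prime_iff_eq ht Nat.prime_three).1 h)
  have hmt : Prim 3 (orderOf ((3 : ℕ) : ZMod t)) t := prim_of_orderOf (by norm_num) ht hpt
  set m := orderOf ((3 : ℕ) : ZMod t) with hm
  have hK : ∀ t, Prim 3 n t → ¬ t ∣ Nat.card K := fun t ht htK =>
    odd_K Nat.prime_three (by norm_num) hF (by omega) R hL (k := n - 2) (l := 2 * n) (m := n) (by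
      constructor <;> (try unfold H425.Fin.Far H425.Fin.IsEta) <;> (try intro x y hx hy) <;> omega)
    (hM (n - 2) (by omega) (by omega)) ht htK
  by_cases hmn : m = n
  · exact hK t (by rwa [← hmn]) htK
  obtain ⟨r, hr⟩ := exists_prim (q := 3) (e := n) (by norm_num) (by omega) (fun h => absurd h.1 (by norm_num))
  have hrt : r ≠ t := by
    rintro rfl
    exact hmn (hmt.unique hr)
  refine kill_mov R hL Nat.prime_three (by norm_num) (by omega) hr (hM n (by omega) le_rfl r hr) (hK r hr) ht ht3 hrt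
    ?_ htK
  by_cases ht2 : t = 2
  · subst ht2
    rw [mul_comm]
    exact two_nadj hF hn hodd hr
  · -- the class of `t`
    have hm3 : 3 ≤ m := by
      by_contra hlt
      have h4 : m ∣ 2 := by
        have hm0 : m ≠ 0 := by
          intro h0
          have := Fact.mk ht
          rw [hm, orderOf_eq_zero_iff] at h0
          exact h0 (isOfFinOrder_iff_pow_eq_one.2 ⟨t - 1, by have := ht.two_le; omega, ZMod.pow_card_sub_one_eq_one (by
            rw [Ne, ZMod.natCast_eq_zero_iff]; exact hpt)⟩)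
        interval_cases m
        · exact absurd rfl hm0
        · exact one_dvd _
        · exact dvd_rfl
      have h5 := (hmt.dvd_iff 2).2 h4
      have h6 : t ∣ 2 ^ 3 := by norm_num at h5 ⊢; exact h5
      exact ht2 ((Nat.prime_dvd_prime_iff_eq ht Nat.prime_two).1 (ht.dvd_of_dvd_pow h6))
    intro hx
    have hd : t ∣ Nat.card (POmega F (quadFormOdd n F)) := by
      obtain ⟨x, hx⟩ := hx
      have := orderOf_dvd_natCard x
      rw [hx] at this
      exact (Dvd.intro_left _ rfl).trans this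
    have hm2 := (odd_dvd Nat.prime_three (by norm_num) hF (by omega) hm3 hmt).1 hd
    refine odd_cls Nat.prime_three (by norm_num) hF (by omega) (k := n) (l := m) (by omega) hm3 (Ne.symm hmn) ?_ ?_
      r t hr hmt hx
    · rw [H425.Chr.eta_odd hodd]
      rcases Nat.mod_two_eq_zero_or_one m with h | h
      · rw [H425.Chr.eta_even h]; omega
      · rw [H425.Chr.eta_odd h]; omega
    · rintro ⟨j, hj, h | h⟩
      · -- `n = m * j` or `m = n * j`
        obtain ⟨i, rfl⟩ := hj
        rcases Nat.eq_zero_or_pos i with rfl | hi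
        · omega
        · have : n * 3 ≤ n * (2 * i + 1) := Nat.mul_le_mul_left _ (by omega)
          omega
      · have h7 : m ∣ n := ⟨j, h⟩
        rcases (Nat.dvd_prime hp).1 h7 with h8 | h8
        · omega
        · exact hmn h8

end Cfsg.Agent.H418.Rec
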