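import Cfsg.Agent.H418.Rec.Odd4

/-!
# `B_n(3)` and `C_n(3)`, `n` an odd prime: the structure (helper418)
-/

set_option autoImplicit false
set_option linter.unusedSectionVars false

namespace Cfsg.Agent.H418.Rec

open Cfsg Subgroup
open Cfsg.Agent.OrdDiv Cfsg.Agent.H436 Cfsg.Agent.H420.QR Cfsg.Agent.H425.KStep Cfsg.Agent.H425.Chr Cfsg.Agent.H425.Siegel
  Cfsg.Agent.H425.KFix Cfsg.Agent.H425.Fin

universe u v

variable {F : Type v} [Field F] [Fintype F]

/-- `π(D_{n+1}(3)) = π(B_n(3))`, `n` odd -/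
theorem pi_plus (hF : Fintype.card F = 3) {n : ℕ} (hn : 5 ≤ n) (hodd : n % 2 = 1) {r : ℕ} (hr : r.Prime)
    (h : r ∣ Nat.card (POmega F (quadFormPlus (n + 1) F))) : r ∣ Nat.card (POmega F (quadFormOdd n F)) := by
  by_cases h3 : r ∣ 3
  · -- `r = 3`
    have h4 : r = 3 := (Nat.prime_dvd_prime_iff_eq hr Nat.prime_three).1 h3
    subst h4
    have h5 := S0292.result (F := F) hF (by decide) n (by omega)
    have h6 : 3 ∣ 2 * Nat.card (POmega F (quadFormOdd n F)) := by
      rw [h5]
      exact (dvd_pow_self 3 (pow_ne_zero 2 (by omega))).mul_right _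
    exact (Nat.Coprime.dvd_of_dvd_mul_left (by decide) h6)
  · have hmt : Prim 3 (orderOf ((3 : ℕ) : ZMod r)) r := prim_of_orderOf (by norm_num) hr h3
    set m := orderOf ((3 : ℕ) : ZMod r) with hm
    rcases Nat.lt_or_ge m 3 with hlt | hge
    · have h4 : m ∣ 2 := by
        have hm0 : m ≠ 0 := by
          intro h0
          have := Fact.mk hr
          rw [hm, orderOf_eq_zero_iff] at h0
          exact h0 (isOfFinOrder_iff_pow_eq_one.2 ⟨r - 1, by have := hr.two_le; omega, ZMod.pow_card_sub_one_eq_one (by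
            rw [Ne, ZMod.natCast_eq_zero_iff]; exact h3)⟩)
        interval_cases m
        · exact absurd rfl hm0
        · exact one_dvd _
        · exact dvd_rfl
      have h5 := (hmt.dvd_iff 2).2 h4
      have h6 : r ∣ 2 ^ 3 := by norm_num at h5 ⊢; exact h5
      have h7 : r = 2 := (Nat.prime_dvd_prime_iff_eq hr Nat.prime_two).1 (hr.dvd_of_dvd_pow h6)
      subst h7
      have h8 := S0292.result (F := F) hF (by decide) n (by omega)
      have h9 : 4 ∣ ∏ i ∈ Finset.range n, (3 ^ (2 * (i + 1)) - 1) := by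
        refine Dvd.dvd.trans ?_ (Finset.dvd_prod_of_mem _ (Finset.mem_range.2 (show 0 < n by omega)))
        norm_num
      have h10 : 2 * 2 ∣ 2 * Nat.card (POmega F (quadFormOdd n F)) := by
        rw [h8]
        exact h9.mul_left _
      exact Nat.dvd_of_mul_dvd_mul_left (by norm_num) h10
    · have h6 := (plus_dvd Nat.prime_three hF (by omega) hge hmt).1 h
      refine (odd_dvd Nat.prime_three (by norm_num) hF (by omega) hge hmt).2 ?_
      omega

theorem sHyp_plus (hF : Fintype.card F = 3) {n : ℕ} (hn : 5 ≤ n) (hodd : n % 2 = 1) {S : Type u} [Group S] [Finite S]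
    (h : SHyp (POmega F (quadFormOdd n F)) S) : SHyp (POmega F (quadFormPlus (n + 1) F)) S := by
  have hup : ∀ N, (∃ x : POmega F (quadFormOdd n F), orderOf x = N) →
      ∃ y : POmega F (quadFormPlus (n + 1) F), orderOf y = N :=
    fun N hN => exists_plus_of_odd (two_ne hF) (by omega) hN
  refine ⟨fun r hr hd => ?_, fun r s hr hs hrs hx => hup _ (h.adj r s hr hs hrs hx), ?_, ?_⟩
  · have := Fact.mk hr
    obtain ⟨x, hx⟩ := exists_prime_orderOf_dvd_card' r (h.pi r hr hd)
    obtain ⟨y, hy⟩ := hup _ ⟨x, hx⟩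
    rw [← hy]
    exact orderOf_dvd_natCard y
  · intro ρ hρ h3
    refine h.coc ρ ⟨hρ.prime, fun r hr => pi_plus hF hn hodd (hρ.prime r hr) (hρ.dvd r hr),
      fun r hr s hs hrs hx => hρ.nadj r hr s hs hrs (hup _ hx)⟩ h3
  · rcases h.two with h1 | h1
    · exact Or.inl h1
    · right
      intro p hp hp2 hd hx
      exact h1 p hp hp2 (pi_plus hF hn hodd hp hd) (fun h4 => hx (hup _ h4))

/-- **The other characteristics** -/
theorem cross_odd (hF : Fintype.card F = 3) {n : ℕ} (hn : 5 ≤ n) (hp : n.Prime) :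
    Cross3.{u} (POmega F (quadFormOdd n F)) := by
  have hodd : n % 2 = 1 := by
    rcases hp.eq_two_or_odd with h | h
    · omega
    · exact h
  intro S _ _ h g hg
  refine cross3 hF (n := n + 1) (by omega) ?_ ?_ S (sHyp_plus hF hn hodd h) g hg
  · intro h10
    have : n = 9 := by omega
    subst this
    exact absurd hp (by norm_num)
  · intro h16
    have : n = 15 := by omega
    subst this
    exact absurd hp (by norm_num)

/-- **The reduction** -/
theorem exists_red_odd {G : Type u} [Group G] [Finite G] (hF : Fintype.card F = 3) {n : ℕ} (hn : 5 ≤ n)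
    (hodd : n % 2 = 1) (hL : Same (POmega F (quadFormOdd n F)) G) :
    ∃ (K : Subgroup G) (_ : K.Normal) (S : Subgroup (G ⧸ K)) (_ : S.Normal), Red G K S := by
  have h : OT n n (2 * n) (n - 2) := by
    constructor <;> (try unfold H425.Fin.Far H425.Fin.IsEta) <;> (try intro x y hx hy) <;> omega
  obtain ⟨r, hr⟩ := exists_prim (q := 3) (e := n) (by norm_num) h.k3 (fun h => absurd h.1 (by norm_num))
  have hr2 : r ≠ 2 := by
    have := hr.odd (by omega)
    omega
  exact exists_red_of_classes hL Nat.prime_three (by norm_num) h.k3 h.l3 h.m3 h.kl.data.2.2.2.1 h.km.data.2.2.2.1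
      h.lm.data.2.2.2.1
      (odd_D Nat.prime_three (by norm_num) hF (by omega) h.k3 h.kn)
      (odd_D Nat.prime_three (by norm_num) hF (by omega) h.l3 h.ln)
      (odd_D Nat.prime_three (by norm_num) hF (by omega) h.m3 h.mn)
      (odd_N Nat.prime_three (by norm_num) hF (by omega) h.kl) (odd_N Nat.prime_three (by norm_num) hF (by omega) h.km)
      (odd_N Nat.prime_three (by norm_num) hF (by omega) h.lm)
      ⟨r, hr.prime, hr2, odd_D Nat.prime_three (by norm_num) hF (by omega) h.k3 h.kn r hr, two_nadj hF hn hodd hr⟩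

/-- **The structure** -/
theorem struct {G : Type u} [Group G] [Finite G] (hF : Fintype.card F = 3) {n : ℕ} (hn : 5 ≤ n) (hp : n.Prime)
    (hL : Same (POmega F (quadFormOdd n F)) G) : Struct G n := by
  have hodd : n % 2 = 1 := by
    rcases hp.eq_two_or_odd with h | h
    · omega
    · exact h
  obtain ⟨K, hK, S, hS, R⟩ := exists_red_odd hF hn hodd hL
  obtain ⟨g, hg⟩ := R.named
  obtain ⟨f, hf, hq⟩ := cross_odd hF hn hp S (R.sHyp hL) g hg
  refine ⟨K, hK, S, hS, R, ?_⟩
  rcases odd_end_name5 Nat.prime_three (by norm_num) hF hn R hL hg hf hq with rfl | rfl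
  · exact Or.inl hg
  · exact Or.inr hg

end Cfsg.Agent.H418.Rec
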