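import Cfsg.Agent.H425.OutClass
import Cfsg.Agent.H425.Torus
import Cfsg.Agent.LieClassical.OmegaCenter
import Cfsg.Agent.LieClassical.OrthForms
import Cfsg.Agent.ClassicalGeometry.OrthSemiCount

/-!
# A class of elements of order `r` of `Ω_{2n+1}(3)`, `r ∣ 3 ^ n - 1`, `n` odd, fixed by all automorphisms
-/

set_option autoImplicit false

namespace Cfsg.Agent.H418.Rec

open Cfsg Matrix QuadraticMap
open Cfsg.Agent.ClassicalGeometry.Reflection Cfsg.Agent.ClassicalGeometry.SpinorSign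
  Cfsg.Agent.ClassicalGeometry.OmegaIndex Cfsg.Agent.H175.OmegaAdjust
open Cfsg.Agent.H425.OutC

universe u

section

variable {F : Type u} [Field F] {ι : Type} [Fintype ι] [DecidableEq ι]

/-- **The class of `x` is fixed by all automorphisms.** -/
theorem aut_class' [Finite F] (h2 : (2 : F) ≠ 0) (hσ : ∀ (σ : F ≃+* F) (c : F), σ c = c)
    (Q : QuadraticForm F (ι → F)) (hQ : (polarBilin Q).Nondegenerate) (hn : 2 ≤ Fintype.card ι)
    {X : isometryGroup F ⇑Q} (hX : X ∈ Omega F ⇑Q) {a b : isometryGroup F ⇑Q} (ha : a * X = X * a)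
    (hb : b * X = X * b) (hda : ((a : Matrix.GeneralLinearGroup ι F) : Matrix ι ι F).det = -1)
    (hdb : ((b : Matrix.GeneralLinearGroup ι F) : Matrix ι ι F).det = 1)
    (hsb : spinorSign ⇑Q (1 : F) b = -1)
    (hE : ∀ μ : F, μ ≠ 0 → (∃ T : (ι → F) ≃ₗ[F] (ι → F), ∀ v, Q (T v) = μ * Q v) → IsSquare μ)
    (α : MulAut (POmega F ⇑Q)) (hα : Cfsg.Agent.AutOrth.Main.Ind ⇑Q α) :
    ∃ w : POmega F ⇑Q, α (QuotientGroup.mk ⟨X, hX⟩) = w * QuotientGroup.mk ⟨X, hX⟩ * w⁻¹ := by
  obtain ⟨σ, μ, T, ⟨hμ, hTs, hTQ⟩, hind⟩ := hα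
  let T1 : (ι → F) ≃ₗ[F] (ι → F) :=
    { T with
      map_smul' := fun c v => by
        change T (c • v) = c • T v
        rw [hTs, hσ] }
  obtain ⟨s, hs⟩ := hE μ hμ ⟨T1, fun v => by
    change Q (T v) = _
    rw [hTQ, hσ]⟩
  have hs0 : s ≠ 0 := by
    rintro rfl
    exact hμ (by rw [hs, zero_mul])
  let T' : (ι → F) ≃ₗ[F] (ι → F) := (LinearEquiv.smulOfNeZero F (ι → F) s⁻¹ (inv_ne_zero hs0)).trans T1
  have hT' : ∀ v, T' v = T (s⁻¹ • v) := fun v => rfl
  have hT'Q : ∀ v, Q (T' v) = Q v := fun v => by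
    rw [hT', hTQ, hσ, QuadraticMap.map_smul, hs, smul_eq_mul]
    field_simp
  have hTT : ∀ v, T v = T' (s • v) := fun v => by rw [hT', smul_smul, inv_mul_cancel₀ hs0, one_smul]
  let g : isometryGroup F ⇑Q := toIso Q T' hT'Q
  have hg : ∀ v, act g v = T' v := fun v => toIso_mulVec Q T' hT'Q v
  let K : Subgroup (isometryGroup F ⇑Q) := Subgroup.centralizer {X}
  obtain ⟨s', hs', hgs⟩ := adjust_odd Q h2 hQ hn K a b (Subgroup.mem_centralizer_singleton_iff.2 ha)
    (Subgroup.mem_centralizer_singleton_iff.2 hb) hda hdb hsb g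
  have hs'' : s' * X = X * s' := Subgroup.mem_centralizer_singleton_iff.1 hs'
  let w : Omega F ⇑Q := ⟨g * s', hgs⟩
  refine ⟨QuotientGroup.mk w, ?_⟩
  rw [hind ⟨X, hX⟩ (w * ⟨X, hX⟩ * w⁻¹)]
  · rfl
  · intro v
    change act (g * s' * X * (g * s')⁻¹) (T v) = T (act X v)
    have hactsmul : ∀ (Y : isometryGroup F ⇑Q) (c : F) (v : ι → F), act Y (c • v) = c • act Y v := fun Y c v =>
      Matrix.mulVec_smul _ _ _
    rw [hTT, hTT, ← hactsmul, ← hg, ← hg, ← act_mul, ← act_mul]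
    congr 1
    calc g * s' * X * (g * s')⁻¹ * g = g * (s' * X * s'⁻¹) := by group
      _ = g * X := by rw [hs'', mul_inv_cancel_right]

end

section

open Cfsg.Agent.LieClassical.OrthForms

variable {F : Type u} [Field F] {m : ℕ}

theorem oddForm_apply (v : Unit ⊕ (Fin m ⊕ Fin m) → F) :
    oddForm m F v = v (.inl ()) ^ 2 + ∑ i : Fin m, v (.inr (.inl i)) * v (.inr (.inr i)) := by
  rw [coe_oddForm]
  rfl

/-- the vectors of the reflections -/
def uv (i : Fin m) (c : F) : Unit ⊕ (Fin m ⊕ Fin m) → F :=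
  Sum.elim 0 (Sum.elim (Pi.single i 1) (Pi.single i c))

theorem oddForm_uv (i : Fin m) (c : F) : oddForm m F (uv i c) = c := by
  rw [oddForm_apply, Finset.sum_eq_single i]
  · simp [uv]
  · intro j _ hj
    simp [uv, Pi.single_eq_of_ne hj]
  · simp

theorem polar_uv (i : Fin m) (c : F) (x : Unit ⊕ (Fin m ⊕ Fin m) → F) :
    polar (oddForm m F) (uv i c) x = x (.inr (.inr i)) + c * x (.inr (.inl i)) := by
  rw [polar_oddForm, Finset.sum_eq_single i]
  · simp [uv, mul_comm]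
  · intro j _ hj
    simp [uv, Pi.single_eq_of_ne hj]
  · simp

theorem uv_ne (i : Fin m) {c : F} (hc : c ≠ 0) : oddForm m F (uv i c) ≠ 0 := by
  rwa [oddForm_uv]

/-- minus one on a hyperbolic plane -/
noncomputable def tt (i : Fin m) : isometryGroup F ⇑(oddForm m F) :=
  reflIso (oddForm m F) (uv i 1) (uv_ne i one_ne_zero) *
    reflIso (oddForm m F) (uv i (-1)) (uv_ne i (neg_ne_zero.2 one_ne_zero))

theorem act_refl (i : Fin m) {c : F} (hc : c ≠ 0) (x : Unit ⊕ (Fin m ⊕ Fin m) → F) :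
    act (reflIso (oddForm m F) (uv i c) (uv_ne i hc)) x =
      x - (c⁻¹ * (x (.inr (.inr i)) + c * x (.inr (.inl i)))) • uv i c := by
  change _ *ᵥ x = _
  rw [coe_reflIso, reflectionMatrix_mulVec, oddForm_uv, polar_uv]

/-- changing signs on planes -/
def ss (P : Fin m → Prop) [DecidablePred P] (x : Unit ⊕ (Fin m ⊕ Fin m) → F) : Unit ⊕ (Fin m ⊕ Fin m) → F :=
  Sum.elim (fun i => x (.inl i)) (Sum.elim (fun i => if P i then - x (.inr (.inl i)) else x (.inr (.inl i)))
    (fun i => if P i then - x (.inr (.inr i)) else x (.inr (.inr i))))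

theorem act_tt (i : Fin m) (x : Unit ⊕ (Fin m ⊕ Fin m) → F) : act (tt i) x = ss (fun j => j = i) x := by
  rw [tt, act_mul, act_refl i one_ne_zero, act_refl i (neg_ne_zero.2 one_ne_zero)]
  funext s
  rcases s with s | (s | s)
  · simp [ss, uv]
  · by_cases hs : s = i
    · subst hs
      simp [ss, uv]
    · simp [ss, uv, hs]
  · by_cases hs : s = i
    · subst hs
      simp [ss, uv]
    · simp [ss, uv, hs]

/-- minus one on the hyperbolic planes of the list -/
noncomputable def bl (l : List (Fin m)) : isometryGroup F ⇑(oddForm m F) := (l.map tt).prod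

theorem act_bl (l : List (Fin m)) (hl : l.Nodup) (x : Unit ⊕ (Fin m ⊕ Fin m) → F) :
    act (bl l) x = ss (fun j => j ∈ l) x := by
  induction l with
  | nil =>
    change (1 : Matrix _ _ F) *ᵥ x = _
    rw [one_mulVec]
    funext s
    rcases s with s | (s | s) <;> simp [ss]
  | cons i l ih =>
    have h1 : bl (F := F) (i :: l) = tt i * bl l := by
      rw [bl, List.map_cons, List.prod_cons, bl]
    rw [h1, act_mul, ih (List.nodup_cons.1 hl).2, act_tt]
    have h2 := (List.nodup_cons.1 hl).1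
    funext s
    rcases s with s | (s | s)
    · rfl
    · by_cases hs : s = i
      · subst hs
        simp [ss, h2]
      · simp [ss, hs]
    · by_cases hs : s = i
      · subst hs
        simp [ss, h2]
      · simp [ss, hs]

theorem det_bl (l : List (Fin m)) :
    (((bl l : isometryGroup F ⇑(oddForm m F)) : Matrix.GeneralLinearGroup (Unit ⊕ (Fin m ⊕ Fin m)) F) :
      Matrix (Unit ⊕ (Fin m ⊕ Fin m)) (Unit ⊕ (Fin m ⊕ Fin m)) F).det = 1 := by
  induction l with
  | nil => exact Matrix.det_one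
  | cons i l ih =>
    have h1 : bl (F := F) (i :: l) = tt i * bl l := by
      rw [bl, List.map_cons, List.prod_cons, bl]
    have hcoe : ∀ x y : isometryGroup F ⇑(oddForm m F), (((x * y : isometryGroup F ⇑(oddForm m F)) :
        Matrix.GeneralLinearGroup (Unit ⊕ (Fin m ⊕ Fin m)) F) : Matrix (Unit ⊕ (Fin m ⊕ Fin m)) (Unit ⊕ (Fin m ⊕ Fin m)) F).det =
        ((x : Matrix.GeneralLinearGroup (Unit ⊕ (Fin m ⊕ Fin m)) F) : Matrix (Unit ⊕ (Fin m ⊕ Fin m)) (Unit ⊕ (Fin m ⊕ Fin m)) F).det *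
        ((y : Matrix.GeneralLinearGroup (Unit ⊕ (Fin m ⊕ Fin m)) F) : Matrix (Unit ⊕ (Fin m ⊕ Fin m)) (Unit ⊕ (Fin m ⊕ Fin m)) F).det := fun x y => by
      rw [← Matrix.det_mul]; rfl
    rw [h1, hcoe, ih, mul_one]
    exact det_refl_mul_refl _ _ _ _ _

theorem spinorSign_bl [Finite F] (h2 : (2 : F) ≠ 0) (hn : ¬ IsSquare (-1 : F)) (l : List (Fin m)) :
    spinorSign ⇑(oddForm m F) (1 : F) (bl l) = (-1) ^ l.length := by
  induction l with
  | nil => exact map_one _
  | cons i l ih =>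
    have h1 : bl (F := F) (i :: l) = tt i * bl l := by
      rw [bl, List.map_cons, List.prod_cons, bl]
    have h3 : spinorSign ⇑(oddForm m F) (1 : F) (tt i) = -1 :=
      spinorSign_refl_mul_refl h2 _ _ _ _ _ (by rw [oddForm_uv, oddForm_uv, one_mul]; exact hn)
    rw [h1]
    refine (map_mul (spinorSign ⇑(oddForm m F) (1 : F)) _ _).trans ?_
    rw [ih, h3, List.length_cons, pow_succ']

end

end Cfsg.Agent.H418.Rec
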